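import Groth.Agent.MorSch.K251.SecTw
import Groth.Agent.MorSch.K314.MorSmooth
import Groth.Agent.MorSch.K314.Pointed
import Groth.Agent.MorSch.K921.MorQuasi
import Groth.Agent.MorSch.K921.SmLift

/-!
# Smoothness of the evaluation morphism along free curves
-/

set_option autoImplicit false
universe u

open CategoryTheory CategoryTheory.Limits AlgebraicGeometry Opposite TopologicalSpace
open Groth.Agent Groth.Agent.CohqB.HomSheaf Groth.Agent.CohqB.ProjBC

namespace K251.EvSm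

open K314.MorScheme K314.Lift K314.Small K314.P1H1 K314.MorSmooth

noncomputable section

variable {R : Type u} [CommRing R] {X M P : Scheme.{u}} {f : X ⟶ Spec (CommRingCat.of R)}
  {m : M ⟶ Spec (CommRingCat.of R)} {pc : P ⟶ CohB1.ProjSpace 1 R} {pm : P ⟶ M} {u : P ⟶ X}

/-- The Hilbert-scheme form of universality from the functor form. -/
theorem isMor_of_isUniv {Y X S : Scheme.{u}} {p : Y ⟶ S} {q : X ⟶ S} {M : Over S} {u : MorSch.Obj p q M}
    (hM : K921.MorQuasi.IsUniv p q M u) :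
    IsMor p q M.hom (pullback.fst p M.hom) (pullback.snd p M.hom) u.1 := by
  refine ⟨IsPullback.of_hasPullback _ _, by rw [u.2, pullback.condition], ?_⟩
  intro T Q _ t qc qt sq a ha
  let T' : Over S := Over.mk t
  have : IsLocallyNoetherian T'.left := inferInstanceAs (IsLocallyNoetherian T)
  let e : PicF.XT p T' ≅ Q := (IsPullback.of_hasPullback p T'.hom).isoIsPullback _ _ sq
  have he1 : e.hom ≫ qc = pullback.fst p T'.hom := IsPullback.isoIsPullback_hom_fst _ _ _ _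
  have he2 : e.hom ≫ qt = pullback.snd p T'.hom := IsPullback.isoIsPullback_hom_snd _ _ _ _
  let φ : MorSch.Obj p q T' := ⟨e.hom ≫ a, by
    rw [Category.assoc, ha, reassoc_of% he2]
    exact pullback.condition.symm⟩
  obtain ⟨g, hg, hg'⟩ := hM T' φ
  have hg1 : PicF.XTmap p g ≫ u.1 = e.hom ≫ a := congrArg Subtype.val hg
  have key : ∀ g : T' ⟶ M, ∀ h : Q ⟶ PicF.XT p M, h ≫ pullback.fst p M.hom = qc →
      h ≫ pullback.snd p M.hom = qt ≫ g.left → e.hom ≫ h = PicF.XTmap p g := by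
    intro g h h1 h2
    apply pullback.hom_ext
    · rw [Category.assoc, h1, he1, MorSch.XTmap_fst]
    · rw [Category.assoc, h2, reassoc_of% he2, K921.MorQuasi.XTmap_proj]
  refine ⟨g.left, ⟨Over.w g, fun h h1 h2 => ?_⟩, ?_⟩
  · rw [← cancel_epi e.hom, ← hg1, ← Category.assoc, key g h h1 h2]
  · rintro g₁ ⟨h1, h2⟩
    let g₁' : T' ⟶ M := Over.homMk g₁ h1
    have : g₁' = g := by
      apply hg'
      apply MorSch.Obj.ext
      change PicF.XTmap p g₁' ≫ u.1 = e.hom ≫ a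
      have h3 := h2 (e.inv ≫ PicF.XTmap p g₁')
        (by rw [Category.assoc, MorSch.XTmap_fst, Iso.inv_comp_eq, he1])
        (by rw [Category.assoc, K921.MorQuasi.XTmap_proj, Iso.inv_comp_eq, reassoc_of% he2]; rfl)
      rw [Category.assoc, Iso.inv_comp_eq] at h3
      exact h3
    exact congrArg (fun z => z.left) this

theorem lfp_ev [IsNoetherianRing R] [LocallyOfFiniteType f] [LocallyOfFiniteType m]
    (hM : IsMor (CohB1.ProjSpace.toSpec 1 R) f m pc pm u) : LocallyOfFinitePresentation u := by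
  have sqM := hM.sq
  have hcp : IsProper (CohB1.ProjSpace.toSpec 1 R) := Dix.ProjProper.isProper_toSpec 1 R
  have hpm : IsProper pm := MorphismProperty.of_isPullback sqM hcp
  have hXN : IsLocallyNoetherian X := LocallyOfFiniteType.isLocallyNoetherian f
  have hcomp : LocallyOfFiniteType (u ≫ f) := by
    rw [hM.comm]
    infer_instance
  have hu1 : LocallyOfFiniteType u := locallyOfFiniteType_of_comp u f
  exact LocallyOfFinitePresentation.iff_locallyOfFiniteType.2 inferInstance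

/-- **The evaluation morphism is smooth along the curves with `H⁰(P¹, u^*Ω(-1)) = 0`.** -/
theorem mem_smoothLocus_ev [IsNoetherianRing R] [QuasiSeparated f] [Smooth f] [LocallyOfFiniteType m]
    [LocallyOfFinitePresentation u]
    (hM : IsMor (CohB1.ProjSpace.toSpec 1 R) f m pc pm u) (z : P)
    (hμ : Subsingleton (Coh.HH (pm.fiber (pm z)) ((Scheme.Modules.pullback (pm.fiberι (pm z))).obj
      (twSh f pc u (-1))) 0)) :
    z ∈ u.smoothLocus := by
  have sqM := hM.sq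
  have hcp : IsProper (CohB1.ProjSpace.toSpec 1 R) := Dix.ProjProper.isProper_toSpec 1 R
  have hcs : Smooth (CohB1.ProjSpace.toSpec 1 R) := Gaga.H364.ProjRed.smooth_toSpec 1 R
  have hpm : IsProper pm := MorphismProperty.of_isPullback sqM hcp
  have hXN : IsLocallyNoetherian X := LocallyOfFiniteType.isLocallyNoetherian f
  refine K633.SmallExtPt.mem_smoothLocus_of_lifting u z ?_
  intro B' B _ _ _ _ _ _ π hπ ht α β hα hαβ
  obtain ⟨t, hk, ht⟩ := ht
  obtain ⟨φ₁, hφ₁⟩ : ∃ φ₁ : R →+* B', Spec.map (CommRingCat.ofHom φ₁) = β ≫ f :=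
    ⟨(Spec.preimage (β ≫ f)).hom, Spec.map_preimage (β ≫ f)⟩
  let c := CohB1.ProjSpace.toSpec 1 R
  let ρ : B →+* IsLocalRing.ResidueField B := IsLocalRing.residue B
  let j := pmap π 1
  let i := pmap ρ 1
  have sq : IsPullback j (CohB1.ProjSpace.toSpec 1 B) (CohB1.ProjSpace.toSpec 1 B') (Spec.map (CommRingCat.ofHom π)) :=
    isPullback_pmap π 1
  have sq₁ : IsPullback i (CohB1.ProjSpace.toSpec 1 (IsLocalRing.ResidueField B)) (CohB1.ProjSpace.toSpec 1 B)
      (Spec.map (CommRingCat.ofHom ρ)) := isPullback_pmap ρ 1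
  have sq' : IsPullback (pmap φ₁ 1) (CohB1.ProjSpace.toSpec 1 B') c (Spec.map (CommRingCat.ofHom φ₁)) :=
    isPullback_pmap φ₁ 1
  have sqB : IsPullback (j ≫ pmap φ₁ 1) (CohB1.ProjSpace.toSpec 1 B) c
      (Spec.map (CommRingCat.ofHom π) ≫ Spec.map (CommRingCat.ofHom φ₁)) := sq.paste_horiz sq'
  -- the two components of `α`
  have hαm : Spec.map (CommRingCat.ofHom π) ≫ Spec.map (CommRingCat.ofHom φ₁) = (α ≫ pm) ≫ m := by
    rw [hφ₁, ← Category.assoc, hαβ, Category.assoc, hM.comm, Category.assoc]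
  have hαc : Spec.map (CommRingCat.ofHom π) ≫ Spec.map (CommRingCat.ofHom φ₁) = (α ≫ pc) ≫ c := by
    rw [hαm, Category.assoc, Category.assoc, sqM.w]
  have w1 : (j ≫ pmap φ₁ 1) ≫ c = (CohB1.ProjSpace.toSpec 1 B ≫ α ≫ pm) ≫ m := by
    rw [sqB.w, hαm]
    simp only [Category.assoc]
  let hB : CohB1.ProjSpace 1 B ⟶ P := sqM.lift (j ≫ pmap φ₁ 1) (CohB1.ProjSpace.toSpec 1 B ≫ α ≫ pm) w1
  have hB1 : hB ≫ pc = j ≫ pmap φ₁ 1 := sqM.lift_fst _ _ _
  have hB2 : hB ≫ pm = CohB1.ProjSpace.toSpec 1 B ≫ α ≫ pm := sqM.lift_snd _ _ _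
  let g := hB ≫ u
  have w : j ≫ CohB1.ProjSpace.toSpec 1 B' ≫ Spec.map (CommRingCat.ofHom φ₁) = g ≫ f := by
    have e1 := sq.w
    have e2 : g ≫ f = CohB1.ProjSpace.toSpec 1 B ≫ (α ≫ pm) ≫ m := by
      rw [Category.assoc, hM.comm, ← Category.assoc, hB2]
      simp only [Category.assoc]
    rw [e2, ← hαm, ← Category.assoc, e1, Category.assoc]
  -- nilpotent kernel
  have hnil : IsNilpotent (RingHom.ker π) := by
    refine ⟨2, ?_⟩
    have htm : t ∈ IsLocalRing.maximalIdeal B' := by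
      rw [IsLocalRing.mem_maximalIdeal, mem_nonunits_iff]
      intro hu
      have h1 : t ∈ RingHom.ker π := by rw [hk]; exact Ideal.mem_span_singleton_self t
      have h2 := hu.map π
      rw [RingHom.mem_ker] at h1
      rw [h1] at h2
      exact not_isUnit_zero h2
    rw [hk, Ideal.span_singleton_pow, pow_two, ht t htm]
    exact Ideal.span_singleton_eq_bot.2 rfl
  -- the section over `B`
  let s : Spec (CommRingCat.of B) ⟶ CohB1.ProjSpace 1 B := sqB.lift (α ≫ pc) (𝟙 _) (by rw [Category.id_comp, hαc])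
  have hs1 : s ≫ j ≫ pmap φ₁ 1 = α ≫ pc := sqB.lift_fst _ _ _
  have hs2 : s ≫ CohB1.ProjSpace.toSpec 1 B = 𝟙 _ := sqB.lift_snd _ _ _
  -- the section over `B'`
  obtain ⟨p', hp'1, hp'2⟩ : ∃ p' : Spec (CommRingCat.of B') ⟶ CohB1.ProjSpace 1 R,
      p' ≫ c = Spec.map (CommRingCat.ofHom φ₁) ∧ Spec.map (CommRingCat.ofHom π) ≫ p' = α ≫ pc := by
    have hsm : Smooth ((⊤ : (CohB1.ProjSpace 1 R).Opens).ι ≫ c) := inferInstance
    exact K921.SmLift.exists_lift_local c ⊤ π hπ hnil (α ≫ pc) trivial _ hαc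
  let σ : Spec (CommRingCat.of B') ⟶ CohB1.ProjSpace 1 B' := sq'.lift p' (𝟙 _) (by rw [Category.id_comp, hp'1])
  have hσ1 : σ ≫ pmap φ₁ 1 = p' := sq'.lift_fst _ _ _
  have hσ2 : σ ≫ CohB1.ProjSpace.toSpec 1 B' = 𝟙 _ := sq'.lift_snd _ _ _
  have hsep : IsSeparated (CohB1.ProjSpace.toSpec 1 B') := (Dix.ProjProper.isProper_toSpec 1 B').toIsSeparated
  have hσc : IsClosedImmersion (σ ≫ CohB1.ProjSpace.toSpec 1 B') := by rw [hσ2]; infer_instance
  have hσcl : IsClosedImmersion σ := IsClosedImmersion.of_comp σ (CohB1.ProjSpace.toSpec 1 B')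
  have hσf : Flat (σ ≫ CohB1.ProjSpace.toSpec 1 B') := by rw [hσ2]; infer_instance
  have hsσ : s ≫ j = Spec.map (CommRingCat.ofHom π) ≫ σ := by
    apply sq'.hom_ext
    · rw [Category.assoc, hs1, Category.assoc, hσ1, hp'2]
    · rw [Category.assoc, sq.w, reassoc_of% hs2, Category.assoc, hσ2, Category.comp_id]
  have sqT : IsPullback s (Spec.map (CommRingCat.ofHom π)) j σ := by
    refine IsPullback.of_right (h₁₂ := CohB1.ProjSpace.toSpec 1 B) (h₂₂ := CohB1.ProjSpace.toSpec 1 B') ?_ hsσ sq.flip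
    rw [hs2, hσ2]
    exact IsPullback.of_horiz_isIso ⟨by simp⟩
  have hsg : s ≫ hB = α := by
    apply sqM.hom_ext
    · rw [Category.assoc, hB1, hs1]
    · rw [Category.assoc, hB2, reassoc_of% hs2]
  have hx' : s ≫ g = Spec.map (CommRingCat.ofHom π) ≫ β := by
    change s ≫ hB ≫ u = _
    rw [reassoc_of% hsg, hαβ]
  -- the closed fibre
  let ψ : R →+* IsLocalRing.ResidueField B := ρ.comp (π.comp φ₁)
  have hψ : i ≫ j ≫ pmap φ₁ 1 = pmap ψ 1 := by
    rw [Fga.QD1Hilb.pmap_comp, Fga.QD1Hilb.pmap_comp]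
  have hx : (Spec.map (CommRingCat.ofHom ρ) ≫ α ≫ pm) ≫ m = Spec.map (CommRingCat.ofHom ψ) := by
    rw [Category.assoc, ← hαm, ← Spec.map_comp, ← Spec.map_comp]
    rfl
  have hx0 : (Spec.map (CommRingCat.ofHom ρ) ≫ α ≫ pm) (IsLocalRing.closedPoint (IsLocalRing.ResidueField B)) =
      pm z := by
    have h3 : (Spec.map (CommRingCat.ofHom ρ)) (IsLocalRing.closedPoint (IsLocalRing.ResidueField B)) =
        IsLocalRing.closedPoint B := IsLocalRing.comap_closedPoint ρ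
    refine (Scheme.Hom.comp_apply _ _ _).trans ((congrArg (α ≫ pm) h3).trans ?_)
    exact (Scheme.Hom.comp_apply _ _ _).trans (congrArg pm hα)
  have h0 := (field_iff (u := u) (f := f) sqM (-1) ψ (Spec.map (CommRingCat.ofHom ρ) ≫ α ≫ pm) hx (i ≫ hB)
    (by rw [Category.assoc, hB1, hψ])
    (by rw [Category.assoc, hB2, ← Category.assoc, sq₁.w, Category.assoc]) (pm z) hx0).2 hμ
  have hig : (i ≫ hB) ≫ u = i ≫ g := Category.assoc _ _ _
  rw [hig] at h0
  have hE : FlatMod.IsFinLocFree ((Scheme.Modules.pullback (i ≫ g)).obj (Omega.sheaf f)) :=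
    PerfB.FlatPull.isFinLocFree_pullback _ (K696.OmFree.isFinLocFree_omega f)
  have h1 := SecTw.h1_homSheaf hE (-1) (-1) (by norm_num) h0
  have hN := isNoetherian_projSpace (IsLocalRing.ResidueField B)
  have hdim : topologicalKrullDim (CohB1.ProjSpace 1 (IsLocalRing.ResidueField B)) ≤ 1 := by
    rw [Groth.Agent.S10829.result (IsLocalRing.ResidueField B) 1]
    exact le_of_eq (by norm_num)
  have hrel : SmoothOfRelativeDimension 1 (CohB1.ProjSpace.toSpec 1 B') :=
    Sga5.ProjSmooth.smooth_toSpec 1 B'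
  obtain ⟨θ⟩ := SecTw.nonempty_pull_ideal hσ2 (Spec.map (CommRingCat.ofHom (ρ.comp π))) (i ≫ j)
    (by
      have h4 := sq₁.paste_horiz sq
      rwa [← Spec.map_comp] at h4)
  have h1' := K314.Lift.hh_homSheaf_congr (Iso.refl ((Scheme.Modules.pullback (i ≫ g)).obj (Omega.sheaf f))) θ.symm 1 h1
  obtain ⟨b, hb1, hbσ, hb2⟩ := K314.Pointed.exists_lift_small_pointed hπ IsLocalRing.residue_surjective hk
    (fun b hb => ht b (by
      rw [IsLocalRing.mem_maximalIdeal, mem_nonunits_iff]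
      intro hu
      have h2 := (hu.map π).map ρ
      rw [RingHom.mem_ker, RingHom.comp_apply] at hb
      rw [hb] at h2
      exact not_isUnit_zero h2)) sq sq₁ hdim σ sqT f g _ w β
    (by rw [reassoc_of% hσ2, hφ₁]) hx' (K696.OmFree.isFinLocFree_omega f) (Groth.Agent.S5005.result f) h1'
  -- the point over `B'`
  obtain ⟨γ, ⟨hγ1, hγ2⟩, -⟩ := hM.existsUnique (T := Spec (CommRingCat.of B')) (Spec.map (CommRingCat.ofHom φ₁))
    (pmap φ₁ 1) (CohB1.ProjSpace.toSpec 1 B') sq' b hb2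
  obtain ⟨γ', -, hu'⟩ := hM.existsUnique (T := Spec (CommRingCat.of B))
    (Spec.map (CommRingCat.ofHom π) ≫ Spec.map (CommRingCat.ofHom φ₁)) (j ≫ pmap φ₁ 1) (CohB1.ProjSpace.toSpec 1 B) sqB g
    (by rw [← w, ← Category.assoc, sq.w, Category.assoc])
  have hγw : (pmap φ₁ 1) ≫ c = (CohB1.ProjSpace.toSpec 1 B' ≫ γ) ≫ m := by
    rw [sq'.w, Category.assoc, hγ1]
  let h' : CohB1.ProjSpace 1 B' ⟶ P := sqM.lift (pmap φ₁ 1) (CohB1.ProjSpace.toSpec 1 B' ≫ γ) hγw
  have h'1 : h' ≫ pc = pmap φ₁ 1 := sqM.lift_fst _ _ _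
  have h'2 : h' ≫ pm = CohB1.ProjSpace.toSpec 1 B' ≫ γ := sqM.lift_snd _ _ _
  have h'u : h' ≫ u = b := hγ2 h' h'1 h'2
  have e1 : Spec.map (CommRingCat.ofHom π) ≫ γ = γ' := by
    refine hu' _ ⟨by rw [Category.assoc, hγ1], fun h hh1 hh2 => ?_⟩
    have : h = j ≫ h' := by
      apply sqM.hom_ext
      · rw [hh1, Category.assoc, h'1]
      · rw [hh2, Category.assoc, h'2, ← Category.assoc, ← Category.assoc, sq.w]
    rw [this, Category.assoc, h'u, hb1]
  have e2 : α ≫ pm = γ' := by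
    refine hu' _ ⟨hαm.symm, fun h hh1 hh2 => ?_⟩
    have : h = hB := by
      apply sqM.hom_ext
      · rw [hh1, hB1]
      · rw [hh2, hB2]
    rw [this]
  refine ⟨σ ≫ h', ?_, ?_⟩
  · apply sqM.hom_ext
    · rw [Category.assoc, Category.assoc, h'1, hσ1, hp'2]
    · rw [Category.assoc, Category.assoc, h'2, reassoc_of% hσ2, e1, e2]
  · rw [Category.assoc, h'u, hbσ]

theorem pmap_id (k : Type u) [CommRing k] (n : ℕ) : pmap (RingHom.id k) n = 𝟙 _ := by
  have h1 := isPullback_pmap (RingHom.id k) n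
  have h2 : IsIso (Spec.map (CommRingCat.ofHom (RingHom.id k))) := by
    have : CommRingCat.ofHom (RingHom.id k) = 𝟙 (CommRingCat.of k) := rfl
    rw [this, Spec.map_id]
    infer_instance
  have h3 : IsIso (pmap (RingHom.id k) n) := h1.isIso_fst_of_isIso
  have h4 := Fga.QD1Hilb.pmap_comp (n := n) (RingHom.id k) (RingHom.id k)
  rw [RingHom.id_comp] at h4
  rw [← cancel_epi (pmap (RingHom.id k) n), ← h4, Category.comp_id]

/-- **The evaluation morphism is smooth along a free curve.** -/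
theorem mem_smoothLocus_of_isFree {k : Type u} [Field k] {X : Scheme.{u}} (pX : X ⟶ Spec (CommRingCat.of k))
    [Smooth pX] {M : Over (Spec (CommRingCat.of k))} [LocallyOfFiniteType M.hom]
    {u : MorSch.Obj (CohB1.ProjSpace.toSpec 1 k) pX M} (hM : K921.MorQuasi.IsUniv (CohB1.ProjSpace.toSpec 1 k) pX M u)
    (x : Spec (CommRingCat.of k) ⟶ M.left) (hx : x ≫ M.hom = 𝟙 _)
    (i : CohB1.ProjSpace 1 k ⟶ PicF.XT (CohB1.ProjSpace.toSpec 1 k) M) (hi₁ : i ≫ pullback.fst _ _ = 𝟙 _)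
    (hi₂ : i ≫ pullback.snd _ _ = CohB1.ProjSpace.toSpec 1 k ≫ x) (hfree : MorSch.IsFree pX (i ≫ u.1))
    [LocallyOfFinitePresentation u.1]
    (z : ↥(PicF.XT (CohB1.ProjSpace.toSpec 1 k) M))
    (hz : (pullback.snd (CohB1.ProjSpace.toSpec 1 k) M.hom) z = x (IsLocalRing.closedPoint k)) :
    z ∈ u.1.smoothLocus := by
  have hXN : IsLocallyNoetherian X := LocallyOfFiniteType.isLocallyNoetherian pX
  have hqs : QuasiSeparated pX := inferInstance
  have hM' := isMor_of_isUniv hM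
  refine mem_smoothLocus_ev hM' z ?_
  refine (field_iff (u := u.1) (f := pX) hM'.sq (-1) (RingHom.id k) x ?_ i ?_ hi₂ _ hz.symm).1 ?_
  · rw [hx]
    exact (Spec.map_id _).symm
  · rw [hi₁, pmap_id]
  · exact (K251.FreeH0.isFree_iff pX (i ≫ u.1)).1 hfree

end

end K251.EvSm
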