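import Groth.Agent.Curves.K330.SecO1
import Groth.Agent.MorSch.K314.P1H1
import Groth.Agent.Curves.K251.FreeH0
import Groth.Agent.Grpsch.PicGrp

/-!
# The ideal of a section of a family of projective lines, on a fibre

* `nonempty_pull_ideal` : the restriction to a fibre `P¹_K` of the ideal of a section is `O(-1)`;
* `h1_homSheaf` : `H⁰(P¹, E(a)) = 0` implies `H¹(P¹, Hom(E, O(-a-2))) = 0`.
-/

set_option autoImplicit false
universe u

open CategoryTheory CategoryTheory.Limits AlgebraicGeometry TopologicalSpace Opposite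
open Groth.Agent Groth.Agent.CohqB.HomSheaf Groth.Agent.Sga2.PnHomAdj
open Groth.Agent.PerfB.TwistDer Groth.Agent.Ega2.Tens

namespace K251.SecTw

/-- On `P¹_K` the ideal of a rational point is `O(-1)`. -/
theorem nonempty_ideal {K : Type u} [Field K] (p : Spec (CommRingCat.of K) ⟶ CohB1.ProjSpace 1 K)
    (hp : p ≫ CohB1.ProjSpace.toSpec 1 K = 𝟙 _) :
    Nonempty (ClSub.idealMod p.ker ≅ Twist.twistProjSpace 1 K (-1)) := by
  have hsep : IsSeparated (CohB1.ProjSpace.toSpec 1 K) := (Dix.ProjProper.isProper_toSpec 1 K).toIsSeparated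
  have hD := (S15990.result (CohB1.ProjSpace.toSpec 1 K) p hp).1
  have hI := Dix.IdealModCartier.isInvertible_idealMod hD
  obtain ⟨L, hL, ⟨e⟩⟩ := Grpsch.PicGrp.exists_inverse hI
  have hLs : ClSub.IsInverseOf L (ClSub.idealMod p.ker) := ⟨Ega2.Tens.swap L _ ≪≫ e⟩
  obtain ⟨θ⟩ := K330.SecO1.nonempty_iso_O1 p hp L hL hLs
  -- `I ≅ I ⊗ (O(1) ⊗ O(-1)) ≅ (I ⊗ L) ⊗ O(-1) ≅ O(-1)`
  let I : (CohB1.ProjSpace 1 K).Modules := ClSub.idealMod p.ker
  let O1 : (CohB1.ProjSpace 1 K).Modules := Twist.twistProjSpace 1 K 1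
  let Om : (CohB1.ProjSpace 1 K).Modules := Twist.twistProjSpace 1 K (-1)
  let e1 : CohB1.tensorMod O1 Om ≅ Coh.structureModule (CohB1.ProjSpace 1 K) :=
    twMul 1 K 1 (-1) 0 (by norm_num) ≪≫ (twZero 1 K).symm
  let e2 : CohB1.tensorMod (CohB1.tensorMod I L) Om ≅ I :=
    Ega2.Tens.assoc I L Om ≪≫ Ega2.Tens.mapTIso (Iso.refl I) (Ega2.Tens.mapTIso θ (Iso.refl Om) ≪≫ e1) ≪≫
      Ega2.Tens.runit I
  let e3 : CohB1.tensorMod (CohB1.tensorMod I L) Om ≅ Om :=
    Ega2.Tens.mapTIso e (Iso.refl Om) ≪≫ Ega2.Tens.lunit Om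
  exact ⟨e2.symm ≪≫ e3⟩

/-- **The ideal of a section of a family of projective lines restricts to `O(-1)` on the fibres.** -/
theorem nonempty_pull_ideal {C B : Scheme.{u}} {f : C ⟶ B} [IsSeparated f] [SmoothOfRelativeDimension 1 f] {s : B ⟶ C}
    (hs : s ≫ f = 𝟙 B) {K : Type u} [Field K] (α : Spec (CommRingCat.of K) ⟶ B) (j : CohB1.ProjSpace 1 K ⟶ C)
    (sq : IsPullback j (CohB1.ProjSpace.toSpec 1 K) f α) :
    Nonempty ((Scheme.Modules.pullback j).obj (ClSub.idealMod s.ker) ≅ Twist.twistProjSpace 1 K (-1)) := by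
  have hsep : IsSeparated (CohB1.ProjSpace.toSpec 1 K) := (Dix.ProjProper.isProper_toSpec 1 K).toIsSeparated
  have hc : IsClosedImmersion (s ≫ f) := by rw [hs]; infer_instance
  have : IsClosedImmersion s := IsClosedImmersion.of_comp s f
  let p : Spec (CommRingCat.of K) ⟶ CohB1.ProjSpace 1 K := sq.lift (α ≫ s) (𝟙 _) (by simp [hs])
  have hp1 : p ≫ j = α ≫ s := sq.lift_fst _ _ _
  have hp2 : p ≫ CohB1.ProjSpace.toSpec 1 K = 𝟙 _ := sq.lift_snd _ _ _
  have sq2 : IsPullback p α j s := by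
    refine IsPullback.of_right ?_ hp1 sq.flip
    rw [hp2, hs]
    exact IsPullback.of_horiz_isIso ⟨by simp⟩
  have hker : p.ker = s.ker.comap j := Fga.HilbClosed.ker_of_isPullback sq2.flip
  have hD := (S15990.result f s hs).1
  have hDp := (S15990.result (CohB1.ProjSpace.toSpec 1 K) p hp2).1
  obtain ⟨θ⟩ := Dix.IdealModCartier.pullback_idealMod j hD (by rw [← hker]; exact hDp)
  rw [← hker] at θ
  obtain ⟨e⟩ := nonempty_ideal p hp2
  exact ⟨θ ≪≫ e⟩

/-- `H⁰(P¹, E(a)) = 0` implies `H¹(P¹, Hom(E, O(b))) = 0` for `b = -a-2`. -/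
theorem h1_homSheaf {k : Type u} [Field k] {E : (CohB1.ProjSpace 1 k).Modules} (hE : FlatMod.IsFinLocFree E) (a b : ℤ)
    (hab : a + b = -2)
    (h : Subsingleton (Coh.HH (CohB1.ProjSpace 1 k) (CohB1.tensorMod E (Twist.twistProjSpace 1 k a)) 0)) :
    Subsingleton (Coh.HH (CohB1.ProjSpace 1 k) (homSheaf E (Twist.twistProjSpace 1 k b)) 1) := by
  let F : (CohB1.ProjSpace 1 k).Modules := CohB1.tensorMod (Twist.twistProjSpace 1 k a) E
  have hF0 : Subsingleton (Coh.HH (CohB1.ProjSpace 1 k) F 0) :=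
    Fga.HShift.subsingleton_of_iso (swap E (Twist.twistProjSpace 1 k a)) 0 h
  have hF : FlatMod.IsFinLocFree F :=
    Sga67.LocBasis.isFinLocFree_tensorMod (Groth.Agent.S5683.isFinLocFree_of_isInvertible (isInvertible_tw 1 k a)) hE
  obtain ⟨e⟩ := Groth.Agent.S2926.result k 1 F hF 0 (by norm_num)
  have h3 : Subsingleton (Module.Dual k (Coh.HH (CohB1.ProjSpace 1 k) F 0)) := inferInstance
  have h4 := e.symm.toEquiv.subsingleton
  let e1 : (DCoh.sheafHom F).obj (Twist.twistProjSpace 1 k (-((1 : ℕ) + 1))) ≅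
      homSheaf F (Twist.twistProjSpace 1 k (-((1 : ℕ) + 1))) :=
    (sheafHomIso F).app _
  let e2 : homSheaf F (Twist.twistProjSpace 1 k (-((1 : ℕ) + 1))) ≅
      homSheaf E (homSheaf (Twist.twistProjSpace 1 k a) (Twist.twistProjSpace 1 k (-((1 : ℕ) + 1)))) :=
    K462.HomMon.assocIso _ _ _
  let e3 : homSheaf (Twist.twistProjSpace 1 k a) (Twist.twistProjSpace 1 k (-((1 : ℕ) + 1))) ≅
      Twist.twistProjSpace 1 k b :=
    Sga2.PnTwHom.homSheafTw 1 k a (-((1 : ℕ) + 1)) b (by push_cast; linarith)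
  have h5 := Fga.HShift.subsingleton_of_iso (e1 ≪≫ e2) 1 h4
  exact K314.Lift.hh_homSheaf_congr (Iso.refl E) e3 1 h5

end K251.SecTw
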